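import Groth.Agent.PatchLib.Ring
import Groth.Agent.FerrandPush.Affine

/-!
# Quillen's lifting lemma for points of schemes locally of finite presentation
-/

set_option autoImplicit false
set_option linter.style.haveILetI false
set_option backward.isDefEq.respectTransparency false

universe u

open CategoryTheory Limits AlgebraicGeometry MonoidalCategory CartesianMonoidalCategory MonObj
open Polynomial

noncomputable section

namespace Groth.Agent.PatchLib

variable {R : Type u} [CommRing R]

/-- `Spec C` over `Spec R`. -/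
abbrev pt (C : Type u) [CommRing C] [Algebra R C] : Over (Spec (CommRingCat.of R)) :=
  Over.mk (Spec.map (CommRingCat.ofHom (algebraMap R C)))

/-- The map of points induced by an algebra map. -/
def pm {C D : Type u} [CommRing C] [CommRing D] [Algebra R C] [Algebra R D] (f : C →ₐ[R] D) :
    pt (R := R) D ⟶ pt C :=
  Over.homMk (Spec.map (CommRingCat.ofHom f.toRingHom)) (by
    show Spec.map _ ≫ Spec.map _ = Spec.map _
    rw [← Spec.map_comp, ← CommRingCat.ofHom_comp, AlgHom.toRingHom_eq_coe, AlgHom.comp_algebraMap])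

theorem pm_left {C D : Type u} [CommRing C] [CommRing D] [Algebra R C] [Algebra R D] (f : C →ₐ[R] D) :
    (pm f).left = Spec.map (CommRingCat.ofHom f.toRingHom) := rfl

theorem pm_pm {C D E : Type u} [CommRing C] [CommRing D] [CommRing E] [Algebra R C] [Algebra R D]
    [Algebra R E] (f : C →ₐ[R] D) (g : D →ₐ[R] E) : pm g ≫ pm f = pm (g.comp f) := by
  refine Over.OverMorphism.ext ?_
  rw [Over.comp_left, pm_left, pm_left, pm_left, ← Spec.map_comp, ← CommRingCat.ofHom_comp]
  rfl

variable {G : Over (Spec (CommRingCat.of R))} [LocallyOfFinitePresentation G.hom]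

/-- **Quillen's lifting lemma.** -/
theorem exists_lift {A B : Type u} [CommRing A] [CommRing B] [Algebra R A] [Algebra R B] [Algebra A B]
    [IsScalarTower R A B] (s : A) [IsLocalization.Away s B]
    (ev : A[X] →ₐ[R] A) (hev : ∀ P, ev P = P.eval 0)
    (ev' : B[X] →ₐ[R] B) (hev' : ∀ P, ev' P = P.eval 0)
    (φ : A →ₐ[R] B) (hφ : ∀ a, φ a = algebraMap A B a)
    (x : pt B[X] ⟶ G) (a : pt A ⟶ G) (h : pm ev' ≫ x = pm φ ≫ a) :
    ∃ (N : ℕ) (y : pt A[X] ⟶ G), pm ev ≫ y = a ∧
      ∀ (ψ : A[X] →ₐ[R] B[X]) (σ : B[X] →ₐ[R] B[X]), (∀ P, ψ P = P.map (algebraMap A B)) →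
        (∀ Q, σ Q = Q.comp (C (algebraMap A B s ^ N) * X)) → pm ψ ≫ y = pm σ ≫ x := by
  obtain ⟨l, hlx, hla⟩ := FerrandPush.Cart.exists_desc (cart A B) x.left a.left (by
    have e : Spec.map (CommRingCat.ofHom ev'.toRingHom) ≫ x.left =
        Spec.map (CommRingCat.ofHom φ.toRingHom) ≫ a.left := congrArg Over.Hom.left h
    refine Eq.trans ?_ (e.symm.trans ?_)
    · congr 2
      ext c
      exact (hφ c).symm
    · congr 2
      ext c
      · exact hev' _
      · exact hev' _)
  let D : (ULift.{u} ℕ)ᵒᵖ ⥤ Scheme.{u} := (diagram A s).op ⋙ Scheme.Spec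
  obtain ⟨hc⟩ := nonempty_isColimit_cocone (B := B) s
  let c : Cone D := Scheme.Spec.mapCone (cocone (B := B) s).op
  have hlim : IsLimit c := isLimitOfPreserves Scheme.Spec hc.op
  have hbase : ∀ (k : ℕ) (r : R), (trans s)^[k] (algebraMap R A[X] r) = algebraMap R A[X] r := by
    intro k r
    induction k with
    | zero => rfl
    | succ k ih =>
      rw [Function.iterate_succ_apply', ih, trans, IsScalarTower.algebraMap_apply R A A[X],
        AlgHom.commutes]
  let t : D ⟶ (Functor.const (ULift.{u} ℕ)ᵒᵖ).obj (Spec (CommRingCat.of R)) :=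
    { app := fun _ => Spec.map (CommRingCat.ofHom (algebraMap R A[X]))
      naturality := fun i j f => by
        dsimp [D]
        rw [Category.comp_id, ← Spec.map_comp]
        congr 1
        ext r
        exact (diagram_map_apply s f.unop _).trans (hbase _ r) }
  haveI hcofil : IsCofiltered (ULift.{u} ℕ)ᵒᵖ := by
    haveI : IsDirectedOrder (ULift.{u} ℕ) :=
      ⟨fun a b => ⟨⟨max a.down b.down⟩, le_max_left a.down b.down, le_max_right a.down b.down⟩⟩
    infer_instance
  haveI : ∀ {i j : (ULift.{u} ℕ)ᵒᵖ} (f : i ⟶ j), IsAffineHom (D.map f) := fun f => by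
    dsimp [D]; infer_instance
  haveI : ∀ i, CompactSpace (D.obj i) := fun i => by dsimp [D]; infer_instance
  haveI : ∀ i, QuasiSeparatedSpace (D.obj i) := fun i => by dsimp [D]; infer_instance
  have hl : ∀ i : (ULift.{u} ℕ)ᵒᵖ, c.π.app i ≫ t.app i = l ≫ G.hom := by
    intro i
    show Spec.map (CommRingCat.ofHom (stage (B := B) s i.unop.down)) ≫
      Spec.map (CommRingCat.ofHom (algebraMap R A[X])) = l ≫ G.hom
    let gam : R →+* pairRing A B := (stage (B := B) s i.unop.down).comp (algebraMap R A[X])
    have h1 : (cart A B).iA' ≫ Spec.map (CommRingCat.ofHom gam) = (cart A B).iA' ≫ l ≫ G.hom := by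
      rw [reassoc_of% hlx, Over.w x, FerrandPush.Cart.iA', ← Spec.map_comp, ← CommRingCat.ofHom_comp]
      show Spec.map _ = Spec.map _
      congr 2
      refine RingHom.ext fun r => ?_
      show aeval (R := A) _ (algebraMap R A[X] r) = algebraMap R B[X] r
      rw [IsScalarTower.algebraMap_apply R A A[X], AlgHom.commutes, ← IsScalarTower.algebraMap_apply]
    have h2 : (cart A B).iB ≫ Spec.map (CommRingCat.ofHom gam) = (cart A B).iB ≫ l ≫ G.hom := by
      rw [reassoc_of% hla, Over.w a, FerrandPush.Cart.iB, ← Spec.map_comp, ← CommRingCat.ofHom_comp]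
      show Spec.map _ = Spec.map _
      congr 2
      refine RingHom.ext fun r => ?_
      show (algebraMap R A[X] r).eval 0 = algebraMap R A r
      rw [IsScalarTower.algebraMap_apply R A A[X], algebraMap_eq, eval_C]
    rw [← Spec.map_comp, ← CommRingCat.ofHom_comp]
    exact ((cart A B).isPushout_Spec).hom_ext h1 h2
  obtain ⟨i, g, hg1, hg2⟩ := Scheme.exists_π_app_comp_eq_of_locallyOfFinitePresentation
    D t G.hom c hlim l (by
      ext i
      exact hl i)
  have hg1' : Spec.map (CommRingCat.ofHom (stage (B := B) s i.unop.down)) ≫ g = l := hg1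
  refine ⟨i.unop.down, Over.homMk g hg2, ?_, fun ψ σ hψ hσ => ?_⟩
  · refine Over.OverMorphism.ext ?_
    show Spec.map (CommRingCat.ofHom ev.toRingHom) ≫ g = a.left
    rw [← hla, ← hg1', FerrandPush.Cart.iB, ← Category.assoc,
      ← Spec.map_comp, ← CommRingCat.ofHom_comp]
    congr 3
    exact RingHom.ext hev
  · refine Over.OverMorphism.ext ?_
    show Spec.map (CommRingCat.ofHom ψ.toRingHom) ≫ g = Spec.map (CommRingCat.ofHom σ.toRingHom) ≫ x.left
    rw [← hlx, ← hg1',
      FerrandPush.Cart.iA', ← Category.assoc, ← Category.assoc, ← Spec.map_comp, ← Spec.map_comp,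
      ← CommRingCat.ofHom_comp, ← CommRingCat.ofHom_comp]
    congr 3
    refine RingHom.ext fun P => ?_
    show ψ P = σ (aeval (R := A) (C (sInv (B := B) s ^ i.unop.down) * X : B[X]) P)
    rw [hψ, hσ]
    induction P using Polynomial.induction_on' with
    | add p q hp hq => simp [hp, hq]
    | monomial m r =>
      rw [aeval_monomial, IsScalarTower.algebraMap_apply A B B[X], algebraMap_eq, map_monomial, Polynomial.mul_comp,
        Polynomial.C_comp, Polynomial.pow_comp, Polynomial.mul_comp, Polynomial.C_comp, X_comp, ← _root_.mul_assoc (C (sInv s ^ _)), ← C_mul, ← mul_pow,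
        sInv_mul, one_pow, C_1, _root_.one_mul, C_mul_X_pow_eq_monomial]

end Groth.Agent.PatchLib
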