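import Mathlib
import Groth.Agent.FerrandPush.Algebra
import Groth.Agent.AffLim.Presentation

/-!
# `A ×_B B[Y]` as the colimit of copies of `A[Y]`, for `B` a localization of `A`
-/

set_option autoImplicit false
set_option linter.style.haveILetI false

universe u

open Polynomial CategoryTheory Limits

noncomputable section

namespace Groth.Agent.PatchLib

variable {A B : Type u} [CommRing A] [CommRing B] [Algebra A B] (s : A) [IsLocalization.Away s B]

variable (A B) in
/-- Pairs of a constant in `A` and a polynomial over `B` with the same constant term. -/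
def pairRing : Subring (A × B[X]) :=
  RingHom.eqLocus ((algebraMap A B).comp (RingHom.fst A B[X]))
    ((evalRingHom (0 : B)).comp (RingHom.snd A B[X]))

variable (A B) in
/-- The Milnor square defining `pairRing`. -/
def cart : FerrandPush.Cart (pairRing A B) A B[X] B where
  fst := (RingHom.fst A B[X]).comp (pairRing A B).subtype
  snd := (RingHom.snd A B[X]).comp (pairRing A B).subtype
  p := evalRingHom 0
  q := algebraMap A B
  surj b := ⟨C b, by simp⟩
  w c := c.2
  ext' x y h₁ h₂ := Subtype.ext (Prod.ext h₁ h₂)
  lift' b a h := ⟨⟨(b, a), h⟩, rfl, rfl⟩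

/-- The inverse of `s` in `B`. -/
def sInv : B := IsLocalization.Away.invSelf s

theorem sInv_mul : sInv (B := B) s * algebraMap A B s = 1 := by
  rw [mul_comm]; exact IsLocalization.Away.mul_invSelf s

/-- The polynomial substitution `Y ↦ s Y`. -/
def trans : A[X] →ₐ[A] A[X] := aeval (C s * X)

/-- The stage `n` map `P ↦ (P(0), P(Y / s^n))`. -/
def stage (n : ℕ) : A[X] →+* pairRing A B :=
  RingHom.codRestrict ((evalRingHom 0).prod
      (aeval (R := A) (C (sInv (B := B) s ^ n) * X : B[X])).toRingHom) _ fun P => by
    show algebraMap A B (P.eval 0) = (aeval (R := A) (C (sInv (B := B) s ^ n) * X : B[X]) P).eval 0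
    induction P using Polynomial.induction_on' with
    | add p q hp hq => simp [hp, hq]
    | monomial m a => rcases m with _ | m <;> simp [aeval_monomial, mul_pow]

theorem stage_snd (n : ℕ) (P : A[X]) :
    (stage (B := B) s n P).1.2 = aeval (R := A) (C (sInv (B := B) s ^ n) * X : B[X]) P := rfl

theorem stage_fst (n : ℕ) (P : A[X]) : (stage (B := B) s n P).1.1 = P.eval 0 := rfl

theorem trans_pow_monomial (n : ℕ) (k : ℕ) (a : A) :
    (trans s)^[n] (monomial k a) = monomial k (s ^ (n * k) * a) := by
  induction n with
  | zero => simp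
  | succ n ih =>
    rw [Function.iterate_succ_apply', ih, trans, aeval_monomial, mul_pow, ← C_pow, algebraMap_eq,
      ← mul_assoc, ← C_mul, C_mul_X_pow_eq_monomial]
    congr 1
    ring

theorem stage_trans (n m : ℕ) (P : A[X]) :
    stage (B := B) s (n + m) ((trans s)^[m] P) = stage s n P := by
  induction P using Polynomial.induction_on' with
  | add p q hp hq =>
    have : ∀ k (x y : A[X]), (trans s)^[k] (x + y) = (trans s)^[k] x + (trans s)^[k] y := by
      intro k
      induction k with
      | zero => intro x y; rfl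
      | succ k ih => intro x y; simp [Function.iterate_succ_apply', ih]
    rw [this, map_add, map_add, hp, hq]
  | monomial k a =>
    rw [trans_pow_monomial]
    refine Subtype.ext (Prod.ext ?_ ?_)
    · rw [stage_fst, stage_fst]
      rcases k with _ | k <;> simp
    · rw [stage_snd, stage_snd, aeval_monomial, aeval_monomial, mul_pow, mul_pow, ← C_pow, ← C_pow,
        IsScalarTower.algebraMap_apply A B B[X], IsScalarTower.algebraMap_apply A B B[X] a,
        algebraMap_eq, ← mul_assoc, ← mul_assoc, ← C_mul, ← C_mul]
      congr 2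
      rw [map_mul, map_pow, ← pow_mul, ← pow_mul]
      calc algebraMap A B s ^ (m * k) * algebraMap A B a * sInv s ^ ((n + m) * k)
          = (sInv s * algebraMap A B s) ^ (m * k) * (algebraMap A B a * sInv s ^ (n * k)) := by ring
        _ = _ := by rw [sInv_mul, one_pow, one_mul]

theorem exists_stage (x : pairRing A B) : ∃ n P, stage (B := B) s n P = x := by
  obtain ⟨⟨a, p⟩, hx⟩ := x
  have hp0 : algebraMap A B a = p.eval 0 := hx
  choose c hc using fun i => IsLocalization.Away.surj s (p.coeff i)
  choose b hb using hc
  let n := (Finset.range (p.natDegree + 1)).sup c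
  refine ⟨n, C a + ∑ i ∈ Finset.Icc 1 p.natDegree, monomial i (b i * s ^ (n * i - c i)),
    Subtype.ext (Prod.ext ?_ ?_)⟩
  · rw [stage_fst, eval_add, eval_C, eval_finsetSum]
    simp only [add_eq_left]
    refine Finset.sum_eq_zero fun i hi => ?_
    have := (Finset.mem_Icc.1 hi).1
    rw [eval_monomial, zero_pow (by omega), mul_zero]
  · rw [stage_snd, map_add, aeval_C, map_sum, IsScalarTower.algebraMap_apply A B B[X], algebraMap_eq,
      hp0, ← coeff_zero_eq_eval_zero]
    refine Eq.trans ?_ p.as_sum_range_C_mul_X_pow.symm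
    rw [← Finset.sum_sdiff
      (show Finset.Icc 1 p.natDegree ⊆ Finset.range (p.natDegree + 1) from fun i hi => by
        simp only [Finset.mem_Icc, Finset.mem_range] at hi ⊢; omega)]
    have h0 : Finset.range (p.natDegree + 1) \ Finset.Icc 1 p.natDegree = {0} := by
      ext i; simp only [Finset.mem_sdiff, Finset.mem_range, Finset.mem_Icc, Finset.mem_singleton]; omega
    rw [h0, Finset.sum_singleton, pow_zero, mul_one]
    congr 1
    refine Finset.sum_congr rfl fun i hi => ?_
    have hi1 := (Finset.mem_Icc.1 hi).1
    have hcn : c i ≤ n * i :=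
      (Finset.le_sup (f := c) (Finset.mem_range.2 (by have := (Finset.mem_Icc.1 hi).2; omega))).trans
        (Nat.le_mul_of_pos_right n (by omega))
    rw [aeval_monomial, IsScalarTower.algebraMap_apply A B B[X], algebraMap_eq, mul_pow, ← C_pow,
      ← mul_assoc, ← C_mul]
    congr 2
    obtain ⟨e, he⟩ := Nat.exists_eq_add_of_le hcn
    rw [map_mul, map_pow, ← pow_mul, he, Nat.add_sub_cancel_left, ← hb i]
    calc p.coeff i * algebraMap A B s ^ c i * algebraMap A B s ^ e * sInv s ^ (c i + e)
        = p.coeff i * (sInv s * algebraMap A B s) ^ (c i + e) := by ring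
      _ = p.coeff i := by rw [sInv_mul, one_pow, mul_one]

theorem exists_trans_eq_zero {n : ℕ} {P : A[X]} (h : stage (B := B) s n P = 0) :
    ∃ m, (trans s)^[m] P = 0 := by
  have h1 : P.eval 0 = 0 := congrArg (fun x : pairRing A B => x.1.1) h
  have h2 : aeval (R := A) (C (sInv (B := B) s ^ n) * X : B[X]) P = 0 :=
    congrArg (fun x : pairRing A B => x.1.2) h
  have h3 : ∀ i, algebraMap A B (P.coeff i) = 0 := by
    intro i
    have := congrArg (fun q : B[X] => q.coeff i) h2
    have e : aeval (R := A) (C (sInv (B := B) s ^ n) * X : B[X]) P =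
        (P.map (algebraMap A B)).comp (C (sInv (B := B) s ^ n) * X) := by
      rw [comp, eval₂_map, aeval_def]
      rfl
    simp only [e, comp_C_mul_X_coeff, coeff_map, coeff_zero] at this
    have hu : IsUnit ((sInv (B := B) s ^ n) ^ i) := by
      refine IsUnit.pow _ (IsUnit.pow _ ?_)
      exact IsUnit.of_mul_eq_one _ (sInv_mul s)
    exact hu.mul_left_eq_zero.1 this
  choose d hd using fun i => (IsLocalization.Away.exists_of_eq s (show algebraMap A B (P.coeff i) =
    algebraMap A B 0 by rw [h3, map_zero]))
  let m := (Finset.range (P.natDegree + 1)).sup d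
  refine ⟨m, ?_⟩
  have hlin : ∀ k (t : Finset ℕ) (f : ℕ → A[X]),
      (trans s)^[k] (∑ i ∈ t, f i) = ∑ i ∈ t, (trans s)^[k] (f i) := by
    intro k
    induction k with
    | zero => intro t f; rfl
    | succ k ih => intro t f; simp only [Function.iterate_succ_apply', ih, map_sum]
  conv_lhs => rw [P.as_sum_range, hlin]
  refine Finset.sum_eq_zero fun i hi => ?_
  rw [trans_pow_monomial]
  rcases Nat.eq_zero_or_pos i with rfl | hpos
  · rw [← coeff_zero_eq_eval_zero] at h1
    rw [h1, mul_zero, map_zero]
  · have hle : d i ≤ m * i := (Finset.le_sup (f := d) hi).trans (Nat.le_mul_of_pos_right m hpos)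
    obtain ⟨e, he⟩ := Nat.exists_eq_add_of_le hle
    have hdi := hd i
    rw [mul_zero] at hdi
    rw [he, pow_add, mul_right_comm, hdi, zero_mul, map_zero]

variable (A) in
/-- The system `A[Y] → A[Y] → …`, `Y ↦ s Y`. -/
def diagram : ULift.{u} ℕ ⥤ CommRingCat.{u} where
  obj _ := CommRingCat.of A[X]
  map {i j} _ := CommRingCat.ofHom ((trans s : A[X] →ₐ[A] A[X]) ^ (j.down - i.down)).toRingHom
  map_id i := by rw [Nat.sub_self, pow_zero]; rfl
  map_comp {i j k} f g := by
    rw [← CommRingCat.ofHom_comp, show k.down - i.down = (k.down - j.down) + (j.down - i.down) by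
      have h1 : i.down ≤ j.down := f.le
      have h2 : j.down ≤ k.down := g.le
      omega, pow_add]
    rfl

theorem diagram_map_apply {i j : ULift.{u} ℕ} (f : i ⟶ j) (P : A[X]) :
    (diagram A s).map f P = (trans s)^[j.down - i.down] P := by
  show ((trans s : A[X] →ₐ[A] A[X]) ^ (j.down - i.down)) P = _
  rw [AlgHom.coe_pow]

/-- The cocone with point `pairRing`. -/
def cocone : Cocone (diagram A s) where
  pt := CommRingCat.of (pairRing A B)
  ι :=
    { app := fun i => CommRingCat.ofHom (stage s i.down)
      naturality := fun i j f => by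
        ext P
        show stage s j.down ((diagram A s).map f P) = stage s i.down P
        rw [diagram_map_apply]
        have h1 : i.down ≤ j.down := f.le
        have := stage_trans (B := B) s i.down (j.down - i.down) P
        rwa [Nat.add_sub_cancel' h1] at this }

theorem nonempty_isColimit_cocone : Nonempty (IsColimit (cocone (B := B) s)) := by
  haveI : IsDirected (ULift.{u} ℕ) (· ≤ ·) :=
    ⟨fun a b => ⟨⟨max a.down b.down⟩, le_max_left a.down b.down, le_max_right a.down b.down⟩⟩
  refine AffLim.nonempty_isColimit_of_elementwise _ (fun x => ?_) ?_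
  · obtain ⟨n, P, hP⟩ := exists_stage (B := B) s x
    exact ⟨⟨n⟩, P, hP⟩
  · intro j (x : A[X]) (y : A[X]) (h : stage (B := B) s j.down x = stage s j.down y)
    have h0 : stage (B := B) s j.down (x - y : A[X]) = 0 := by
      rw [map_sub, sub_eq_zero]; exact h
    obtain ⟨m, hm⟩ := exists_trans_eq_zero s h0
    have hle : j ≤ (⟨j.down + m⟩ : ULift.{u} ℕ) := Nat.le_add_right j.down m
    refine ⟨⟨j.down + m⟩, hle, ?_⟩
    have hxy : (trans s)^[m] x = (trans s)^[m] y := by
      rw [← AlgHom.coe_pow] at hm ⊢
      rw [map_sub, sub_eq_zero] at hm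
      exact hm
    refine (diagram_map_apply s _ x).trans (Eq.trans ?_ (diagram_map_apply s _ y).symm)
    rw [show j.down + m - j.down = m from Nat.add_sub_cancel_left _ _]
    exact hxy

end Groth.Agent.PatchLib
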